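import Cfsg.Agent.Fi23Mult.E7.CheckRels0
import Cfsg.Agent.Fi23Mult.E7.CheckRels1

/-! Generated: kernel checks combined. -/

namespace Cfsg.Agent.Fi23Mult.E7

open Cfsg.Agent.CosetCert

theorem rels_ok : ∀ i, i < 9477 → data.checkRels i = true := by
  have h0 : ∀ i, i < 0 → data.checkRels i = true := forall_lt_zero
  have h1 := forall_lt_step (b := 500) h0 rels_okAt0 rfl
  have h2 := forall_lt_step (b := 1000) h1 rels_okAt500 rfl
  have h3 := forall_lt_step (b := 1500) h2 rels_okAt1000 rfl
  have h4 := forall_lt_step (b := 2000) h3 rels_okAt1500 rfl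
  have h5 := forall_lt_step (b := 2500) h4 rels_okAt2000 rfl
  have h6 := forall_lt_step (b := 3000) h5 rels_okAt2500 rfl
  have h7 := forall_lt_step (b := 3500) h6 rels_okAt3000 rfl
  have h8 := forall_lt_step (b := 4000) h7 rels_okAt3500 rfl
  have h9 := forall_lt_step (b := 4500) h8 rels_okAt4000 rfl
  have h10 := forall_lt_step (b := 5000) h9 rels_okAt4500 rfl
  have h11 := forall_lt_step (b := 5500) h10 rels_okAt5000 rfl
  have h12 := forall_lt_step (b := 6000) h11 rels_okAt5500 rfl
  have h13 := forall_lt_step (b := 6500) h12 rels_okAt6000 rfl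
  have h14 := forall_lt_step (b := 7000) h13 rels_okAt6500 rfl
  have h15 := forall_lt_step (b := 7500) h14 rels_okAt7000 rfl
  have h16 := forall_lt_step (b := 8000) h15 rels_okAt7500 rfl
  have h17 := forall_lt_step (b := 8500) h16 rels_okAt8000 rfl
  have h18 := forall_lt_step (b := 9000) h17 rels_okAt8500 rfl
  have h19 := forall_lt_step (b := 9477) h18 rels_okAt9000 rfl
  exact h19

end Cfsg.Agent.Fi23Mult.E7
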